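import Cfsg.Agent.FV.A8
import Mathlib.GroupTheory.FiniteAbelian.Basic

/-! Flavell cluster: a finite elementary abelian section of a representation in characteristic `p`. -/

set_option autoImplicit false
set_option linter.style.haveILetI false

namespace Cfsg.Agent.FV

open Subgroup Cfsg.Agent.H20 Cfsg.Agent.H21 Cfsg.Agent.BG Cfsg.Agent.H25
open scoped commutatorElement

universe u v

theorem exists_fin_mod {X : Type u} [Group X] [Finite X] {k : Type*} [Field k] {p : ℕ} [hp : Fact p.Prime] [CharP k p]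
    {V : Type v} [AddCommGroup V] [Module k V] [Nontrivial V] (ρ : Representation k X V)
    (hfaith : Function.Injective ρ) (hirr : ∀ W : Submodule k V, (∀ x : X, W.map (ρ x) ≤ W) → W = ⊥ ∨ W = ⊤) :
    ∃ (P : Type v) (_ : Group P) (_ : Finite P) (φ : X →* MulAut P) (ι : P → V),
      IsElementaryAbelian p (⊤ : Subgroup P) ∧ (⊤ : Subgroup P) ≠ ⊥ ∧ (∀ x, (∀ w, φ x w = w) → x = 1) ∧
      (∀ w, ι w = 0 → w = 1) ∧ ∀ x w, ι (φ x w) = ρ x (ι w) := by
  obtain ⟨v, hv⟩ := exists_ne (0 : V)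
  let W : AddSubgroup V := AddSubgroup.closure (Set.range fun x => ρ x v)
  have hW : ∀ x, ∀ w ∈ W, ρ x w ∈ W := fun x w hw => by
    have : W ≤ W.comap (ρ x).toAddMonoidHom := by
      refine (AddSubgroup.closure_le _).2 ?_
      rintro _ ⟨y, rfl⟩
      exact AddSubgroup.subset_closure ⟨x * y, by simp⟩
    exact this hw
  have hp0 : ∀ w : V, p • w = 0 := fun w => by rw [← Nat.cast_smul_eq_nsmul k, CharP.cast_eq_zero, zero_smul]
  haveI : AddGroup.FG W := (AddGroup.fg_iff_addSubgroup_fg W).2 ((AddSubgroup.fg_iff W).2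
    ⟨_, rfl, Set.finite_range _⟩)
  haveI : Finite W := AddCommGroup.finite_of_fg_torsion W fun w =>
    isOfFinAddOrder_iff_nsmul_eq_zero.2 ⟨p, hp.out.pos, Subtype.ext (hp0 w)⟩
  let a : X → Multiplicative W → Multiplicative W := fun x w => Multiplicative.ofAdd ⟨ρ x w.toAdd, hW x _ w.toAdd.2⟩
  have ha : ∀ x y w, a x (a y w) = a (x * y) w := fun x y w => Subtype.ext (by simp [a])
  have ha1 : ∀ w, a 1 w = w := fun w => Subtype.ext (by simp [a])
  let φ : X →* MulAut (Multiplicative W) := MonoidHom.mk' (fun x => ⟨⟨a x, a x⁻¹,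
    fun w => by rw [ha, inv_mul_cancel, ha1], fun w => by rw [ha, mul_inv_cancel, ha1]⟩,
    fun w w' => Subtype.ext (map_add (ρ x) _ _)⟩) fun x y => MulEquiv.ext fun w => (ha x y w).symm
  have hvW : ∀ y, ρ y v ∈ W := fun y => AddSubgroup.subset_closure ⟨y, rfl⟩
  refine ⟨Multiplicative W, inferInstance, inferInstance, φ, fun w => w.toAdd, ⟨inferInstance, fun w _ =>
    Subtype.ext (hp0 w.toAdd)⟩, fun e => hv ?_, fun x hx => hfaith ?_, fun w hw => Subtype.ext hw, fun x w => rfl⟩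
  · have h1 : Multiplicative.ofAdd (⟨ρ 1 v, hvW 1⟩ : W) = 1 := Subgroup.mem_bot.1 (e ▸ mem_top _)
    simpa using congrArg (fun w : Multiplicative W => (w.toAdd : V)) h1
  · have h1 : Submodule.span k (Set.range fun y => ρ y v) = ⊤ := by
      refine (hirr _ fun y => ?_).resolve_left fun e => hv ?_
      · rw [Submodule.map_span_le]
        rintro _ ⟨z, rfl⟩
        exact Submodule.subset_span ⟨y * z, by simp⟩
      · have h2 : ρ 1 v ∈ Submodule.span k (Set.range fun y => ρ y v) := Submodule.subset_span ⟨1, rfl⟩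
        simpa [e] using h2
    refine LinearMap.ext_on h1 ?_
    rintro _ ⟨y, rfl⟩
    rw [map_one, Module.End.one_apply]
    exact congrArg (fun w : Multiplicative W => (w.toAdd : V)) (hx (Multiplicative.ofAdd ⟨ρ y v, hvW y⟩))

theorem shult {X : Type u} [Group X] [Finite X] (G R : Subgroup X) [G.Normal] (hX : G ⊔ R = ⊤) (hr : (♯R).Prime)
    (hcop : ¬ ♯R ∣ ♯G) {k : Type*} [Field k] {p : ℕ} [hp : Fact p.Prime] [CharP k p]
    {V : Type v} [AddCommGroup V] [Module k V] [Nontrivial V] (ρ : Representation k X V)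
    (hfaith : Function.Injective ρ) (hirr : ∀ W : Submodule k V, (∀ x : X, W.map (ρ x) ≤ W) → W = ⊥ ∨ W = ⊤)
    (hfix : ∀ v : V, (∀ x ∈ R, ρ x v = v) → v = 0) :
    ⁅G, R⁆ = ⊥ ∨ ((∃ m : ℕ, ♯R = 2 ^ m + 1) ∧ ¬ IsMulCommutative ↥⁅G, R⁆ ∧ Cfsg.IsSpecial 2 ↥⁅G, R⁆) := by
  obtain ⟨P, _, _, φ, ι, h1, h2, h3, h4, h5⟩ := exists_fin_mod (p := p) ρ hfaith hirr
  have hr' := Hol.r_inj φ
  have hRG : R ≤ N⟦G⟧ := le_normalizer_of_normal
  have hc : (♯G).Coprime (♯R) := ((Nat.Prime.coprime_iff_not_dvd hr).2 hcop).symm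
  have hB : Bas p ((⊤ : Subgroup P).map (Hol.l φ)) (G.map (Hol.r φ)) (R.map (Hol.r φ)) := by
    refine ⟨elem_map h1 _, by rwa [Ne, map_eq_bot_iff_inj (Hol.l_inj φ)], Hol.le_norm_top _, Hol.le_norm_top _,
      norm_map _ hRG, by rwa [Hol.card_r], by rwa [Hol.card_r, Hol.card_r], eq_bot_iff.2 ?_, eq_bot_iff.2 ?_⟩
    · rintro _ ⟨⟨w, -, rfl⟩, hw⟩
      rw [h4 w (hfix _ fun x hx => by rw [← h5, Hol.l_mem_cent_iff.1 hw x hx]), map_one]
      exact one_mem _
    · rintro _ ⟨⟨x, -, rfl⟩, hx⟩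
      rw [h3 x fun w => Hol.le_cent_iff.1 ((MonoidHom.map_zpowers _ x).le.trans (zpowers_le.2 hx)) x (mem_zpowers x) w
        (mem_top w), map_one]
      exact one_mem _
  have key : ∀ O : Subgroup X, O.Normal → IsPGroup p O → O = ⊥ := fun O hO hOp => by
    obtain ⟨_, ⟨⟨w, -, rfl⟩, hw⟩, hw1⟩ := exists_ne_one (inf_cent_ne_bot_of_pgroup (isPGroup_of_elem hB.elem)
      (hOp.map (Hol.r φ)) (Hol.le_norm_top _) hB.ne)
    let F : Submodule k V := ⨅ x : O, LinearMap.ker (ρ x - 1)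
    have hF : ∀ u, u ∈ F ↔ ∀ x ∈ O, ρ x u = u := fun u => by simp [F, sub_eq_zero]
    have h6 : F = ⊤ := by
      refine (hirr F ?_).resolve_left fun e => hw1 ?_
      · rintro y _ ⟨u, hu, rfl⟩
        refine (hF _).2 fun x hx => ?_
        have := (hF u).1 hu _ (hO.conj_mem' x hx y)
        rw [← Module.End.mul_apply, ← map_mul, show x * y = y * (y⁻¹ * x * y) by group, map_mul,
          Module.End.mul_apply, this]
      · have h7 : ι w ∈ F := (hF _).2 fun x hx => by rw [← h5, Hol.l_mem_cent_iff.1 hw x hx]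
        rw [h4 w (by simpa [e] using h7), map_one]
    refine eq_bot_iff.2 fun x hx => hfaith (LinearMap.ext fun u => ?_)
    rw [(hF u).1 (h6 ▸ Submodule.mem_top) x hx, map_one, Module.End.one_apply]
  haveI hn : (⁅G, R⁆ : Subgroup X).Normal := normalIn_top_iff.1 (hX ▸ ⟨le_top.trans hX.ge, sup_le_norm_commg G R⟩)
  have hT2 : IsPGroup 2 ↥⁅G, R⁆ := by
    refine H24.pResidualOf_eq_bot_iff.1 (key _ inferInstance ?_)
    rw [← isPGroup_map_iff hr', H24.map_pResidualOf, map_commutator]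
    refine (thm_M p _ _ _ (isPGroup_of_elem hB.elem) hB.nG hB.nR hB.nRG hB.rp hB.cop hB.fix).isPGroup ?_
    rw [hB.eq_bot_of_le_cent (inf_le_left.trans (res_normalIn hB.nRG).le) inf_le_right]
    exact IsPGroup.of_bot
  refine or_iff_not_imp_left.2 fun hne => ?_
  have hp2 : p ≠ 2 := fun e => hne (key _ hn (e ▸ hT2))
  have hTG : ⁅G, R⁆ ≤ G := commg_le_left hRG
  have hRT : R ≤ N⟦⁅G, R⁆⟧ := le_normalizer_of_normal
  have hTT := coprime_commg_commg hRG hc
  have hT : Two (♯R) (G.map (Hol.r φ)) (R.map (Hol.r φ)) (⁅G, R⁆.map (Hol.r φ)) :=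
    ⟨Hol.card_r φ R, map_mono hTG, hT2.map _, norm_map _ hRT, by rw [← map_commutator, hTT]⟩
  have hS1 : ∀ A ≤ ⁅G, R⁆, IsMulCommutative A → R ≤ N⟦A⟧ → A ≤ C⟦R⟧ := fun A hA hab hRA =>
    (map_le_cent_map_iff hr').1 (hB.cent_of_comm (map_mono (hA.trans hTG)) (norm_map _ hRA)
      (coprime_of_le_left (Bas.two_cop hp2 hT) (map_mono hA)) (comm_map hab _))
  refine ⟨?_, fun hab => hne (hTT.symm.trans (commg_eq_bot.2 (hS1 _ le_rfl hab hRT))), (special_of hT2 hRT
    (Nat.Coprime.coprime_dvd_left (dvd_card_of_isPGroup hT2 hne) (coprime_of_le_left hc hTG)).symm hTT hS1).1⟩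
  obtain ⟨x, hx, hx1⟩ := exists_ne_one ((map_eq_bot_iff_inj hr').not.2 hne)
  obtain ⟨N, Z, n, hc, -⟩ := hB.exists_cmp hp2 hT hx hx1
  exact ⟨n, (Hol.card_r φ R).symm.trans hc.card⟩

end Cfsg.Agent.FV
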