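import Cfsg.Agent.FV.T2

/-! Flavell cluster: from fusion systems to groups, and the orders of all automizers. -/

set_option autoImplicit false

namespace Cfsg.Agent.FV

open Cfsg Cfsg.FusionSystem Subgroup Cfsg.Agent.H23 Cfsg.Agent.H23.LF
open Equiv (Perm)
open scoped Pointwise

universe u

/-- the statement on fusion systems -/
def T5277 : Prop :=
  ∀ {Ω : Type u} [Group Ω] {S : Subgroup Ω} [Finite S] (p : ℕ) [Fact p.Prime] (_ : IsPGroup p ↥S)
    (F : Cfsg.FusionSystem S) (_ : F.IsSaturated p) (_ : p ≠ 2) (α : ↥S ≃* ↥S) (_ : ∀ x : ↥S, α x = x → x = 1)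
    (_ : F.IsMorphism F (S.subtype.comp α.toMonoidHom)) (r : ℕ) (_ : r.Prime) (_ : orderOf α = r)
    (_ : ∀ R : Subgroup Ω, F.IsCentric R → F.IsRadical p R → ¬ r ∣ Nat.card ↥(F.autGroup R)), F.IsNormal S

theorem card_autGroup_group {G : Type u} [Group G] [Finite G] {S P : Subgroup G} (hP : P ≤ S) :
    Nat.card ((groupFusionSystem S).autGroup P) ∣ Nat.card G := by
  rw [← relIndex_fix_lift]
  change (H23.Fix P).relIndex (AutF (groupFusionSystem S) P) ∣ _
  rw [autF_group hP]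
  exact (Dvd.intro_left _ (card_normalizer_eq ⊤ P).symm).trans (card_subgroup_dvd_card _)

theorem exists_inv_sylow {G : Type u} [Group G] [Finite G] (r p : ℕ) [Fact r.Prime] [Fact p.Prime] (α : MulAut G)
    (hα : orderOf α = r) (hcop : (Nat.card G).Coprime r) : ∃ S : Sylow p G, α • S = S := by
  have h1 : IsPGroup r (zpowers α) := IsPGroup.of_card (n := 1) (by rw [Nat.card_zpowers, hα, pow_one])
  have h2 : ¬ r ∣ Nat.card (Sylow p G) := fun h => by
    obtain ⟨P⟩ : Nonempty (Sylow p G) := inferInstance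
    have := (h.trans P.card_dvd_index).trans (index_dvd_card _)
    exact (Fact.out : r.Prime).one_lt.ne' (Nat.eq_one_of_dvd_coprimes hcop this dvd_rfl)
  obtain ⟨S, hS⟩ := h1.nonempty_fixed_point_of_prime_not_dvd_card (Sylow p G) h2
  exact ⟨S, hS ⟨α, mem_zpowers α⟩⟩

theorem s1928_of (h : T5277.{u}) {G : Type u} [Group G] [Finite G] (r p : ℕ) [Fact r.Prime] [Fact p.Prime]
    (α : MulAut G) (hα : orderOf α = r) (hcop : (Nat.card G).Coprime r) (hp : p ≠ 2)
    (hfix : (Nat.card {g : G // α g = g}).Coprime p) (S : Sylow p G) :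
    Cfsg.ControlsStrongFusion p (S : Subgroup G) := by
  obtain ⟨T, hT⟩ := exists_inv_sylow r p α hα hcop
  have hT' : (T : Subgroup G).map (α : G →* G) = T := congrArg (fun X : Sylow p G => (X : Subgroup G)) hT
  have fx : ∀ x ∈ (T : Subgroup G), α x = x → x = 1 := fun x hx e => by
    have h1 : orderOf x ∣ Nat.card {g : G // α g = g} :=
      (α.toMonoidHom.eqLocus (MonoidHom.id G)).orderOf_dvd_natCard e
    obtain ⟨k, hk⟩ := (IsPGroup.iff_orderOf.1 T.isPGroup') ⟨x, hx⟩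
    rw [Subgroup.orderOf_mk] at hk
    exact orderOf_eq_one_iff.1 (Nat.eq_one_of_dvd_coprimes (hfix.pow_right k) h1 (hk ▸ dvd_rfl))
  have key : ∀ (A : Set G) (g : G), A ⊆ T → (∀ a ∈ A, g * a * g⁻¹ ∈ (T : Subgroup G)) →
      ∃ x ∈ normalizer ((T : Subgroup G) : Set G), ∀ a ∈ A, g * a * g⁻¹ = x * a * x⁻¹ := by
    intro A g hA hg
    by_cases h0 : (T : Subgroup G) = ⊥
    · refine ⟨1, one_mem _, fun a ha => ?_⟩
      have : a ∈ (T : Subgroup G) := hA ha
      rw [h0, mem_bot] at this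
      simp [this]
    let β : (T : Subgroup G) ≃* (T : Subgroup G) := (α.subgroupMap (T : Subgroup G)).trans (MulEquiv.subgroupCongr hT')
    have hβ : ∀ x, ((β x : (T : Subgroup G)) : G) = α x := fun _ => rfl
    have hk : ∀ (k : ℕ) x, (((β ^ k : MulAut (T : Subgroup G)) x : (T : Subgroup G)) : G) = (α ^ k) x := fun k => by
      induction k with
      | zero => intro x; rfl
      | succ k ih => intro x; rw [pow_succ, pow_succ, MulAut.mul_apply, MulAut.mul_apply, ih, hβ]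
    have hN : (groupFusionSystem (T : Subgroup G)).IsNormal T := by
      refine h p T.isPGroup' _ (sat_group T).2 hp β (fun x e => Subtype.ext (fx x x.2 (congrArg Subtype.val e))) ?_ r
        Fact.out ?_ fun R h1 _ h3 => ?_
      · refine ⟨fun s => (β s).2, fun P φ ⟨h1, h2, c, h3⟩ => ?_⟩
        refine ⟨conjHom _ (α c), ⟨?_, ?_, α c, fun _ => rfl⟩, h1, h2, fun x => ⟨⟨x, h1 x.2⟩, x.2, rfl⟩, fun x => ?_⟩
        · rintro _ ⟨x, -, rfl⟩
          exact (β x).2
        · rintro ⟨_, x, hx, rfl⟩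
          have : α (φ ⟨x, hx⟩) ∈ (T : Subgroup G) := (β ⟨_, h2 ⟨x, hx⟩⟩).2
          rw [h3] at this
          simp only [map_mul, map_inv] at this
          exact this
        · show α c * α x * (α c)⁻¹ = α (φ x)
          rw [h3, map_mul, map_mul, map_inv]
      · refine orderOf_eq_prime (MulEquiv.ext fun x => Subtype.ext ?_) fun e => h0 ?_
        · rw [hk, ← hα, pow_orderOf_eq_one]; rfl
        · refine eq_bot_iff.2 fun x hx => fx x hx ?_
          rw [← hβ ⟨x, hx⟩, e]; rfl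
      · exact (Fact.out : r.Prime).one_lt.ne'
          (Nat.eq_one_of_dvd_coprimes hcop (h3.trans (card_autGroup_group h1.1)) dvd_rfl)
    have hm : Mor (groupFusionSystem (T : Subgroup G)) (closure A) (cj g) := by
      refine mor_group_iff.2 ⟨(closure_le _).2 hA, ?_, g, fun _ _ => rfl⟩
      exact (homOn_cj _ g).mem_of_closure hg
    obtain ⟨τ, t1, t2, t3⟩ := normal_kext hN hm
    obtain ⟨x, hx⟩ := t2.exists_cj'
    refine ⟨x, cj_mem_stab.1 (mem_of_eq_on fix_le_stab t1 fun y hy => (hx y (mem_sup_right hy)).symm), fun a ha => ?_⟩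
    exact (t3 a (subset_closure ha)).symm.trans (hx a (mem_sup_left (subset_closure ha)))
  obtain ⟨c, rfl⟩ := MulAction.exists_smul_eq G T S
  have mem : ∀ y : G, y ∈ ((c • T : Sylow p G) : Subgroup G) ↔ c⁻¹ * y * c ∈ (T : Subgroup G) := fun y => by
    rw [Sylow.coe_subgroup_smul, mem_pointwise_smul_iff_inv_smul_mem]
    simp
  refine ⟨c • T, le_rfl, fun A hA => ⟨hA, fun g hg => ?_⟩⟩
  obtain ⟨x, x1, x2⟩ := key ((fun a => c⁻¹ * a * c) '' A) (c⁻¹ * g * c)
    (by rintro _ ⟨a, ha, rfl⟩; exact (mem a).1 (hA ha))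
    (by
      rintro _ ⟨a, ha, rfl⟩
      have := (mem _).1 (hg ⟨a, ha, rfl⟩)
      convert this using 1
      group)
  refine ⟨c * x * c⁻¹, mem_normalizer_iff.2 fun y => ?_, fun a ha => ?_⟩
  · rw [mem, mem, mem_normalizer_iff.1 x1]
    congr! 1
    group
  · have := x2 _ ⟨a, ha, rfl⟩
    calc g * a * g⁻¹ = c * (c⁻¹ * g * c * (c⁻¹ * a * c) * (c⁻¹ * g * c)⁻¹) * c⁻¹ := by group
      _ = _ := by rw [this]; group

section Aut

variable {p : ℕ} [Fact p.Prime] {Ω : Type u} [Group Ω] {S P : Subgroup Ω} [Finite S] {F : FusionSystem S}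

omit [Fact p.Prime] in
theorem exists_ord_of_dvd {r : ℕ} (hr : r.Prime) (hP : P ≤ S) (h : r ∣ Nat.card (F.autGroup P)) :
    ∃ σ ∈ AutF F P, σ ^ r ∈ H23.Fix P ∧ σ ∉ H23.Fix P := by
  have := finite_of_le hP
  have : Fact r.Prime := ⟨hr⟩
  obtain ⟨x, hx⟩ := exists_prime_orderOf_dvd_card' r h
  obtain ⟨σ, rfl⟩ := (liftPres (F.autGroup P)).surj x
  refine ⟨σ, σ.2, ((liftPres _).pow_mem_iff σ r).2 (hx ▸ pow_orderOf_eq_one _), fun e => hr.one_lt.ne' ?_⟩
  have := ((liftPres _).pow_mem_iff σ 1).1 (by rwa [pow_one])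
  rw [pow_one] at this
  rw [← hx, this, orderOf_one]

omit [Fact p.Prime] in
theorem pow_card_mem_fix {σ : Perm Ω} (hP : P ≤ S) (h : σ ∈ AutF F P) :
    σ ^ Nat.card (F.autGroup P) ∈ H23.Fix P := by
  have := finite_of_le hP
  rw [← relIndex_fix_lift]
  exact (nfin_autF F P).pow_relIndex_mem h

omit [Fact p.Prime] [Finite S] in
theorem card_autGroup_im {σ : Perm Ω} (h : Mor F P σ) :
    Nat.card (F.autGroup (im σ P)) = Nat.card (F.autGroup P) := by
  rw [← relIndex_fix_lift, ← relIndex_fix_lift]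
  change (H23.Fix _).relIndex (AutF F _) = (H23.Fix _).relIndex (AutF F _)
  rw [← h.cjS_autF, ← cjS_fix h.homOn, relIndex_cjS]

/-- A prime that divides the order of some automizer divides that of a centric radical subgroup. -/
theorem not_dvd_aut (hF : Sat p F) {r : ℕ} (hr : r.Prime)
    (hcr : ∀ R : Subgroup Ω, F.IsCentric R → F.IsRadical p R → ¬ r ∣ Nat.card (F.autGroup R)) :
    ∀ P, P ≤ S → ¬ r ∣ Nat.card (F.autGroup P) := by
  refine induction_down _ fun P₀ hP₀ ih => ?_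
  obtain ⟨ψ, hψ, hn⟩ := exists_fn F hP₀
  rw [← card_autGroup_im hψ]
  rw [← hψ.card_im] at ih
  generalize im ψ P₀ = P at hn ih
  have hP : P ≤ S := hn.1
  have := finite_of_le hP
  have nf := nfin_autF F P
  set U := Op p (H23.Fix P) (AutF F P)
  have u1 : U ≤ AutS S P := (hF.rsyl_of_fn hn).Op_le nf
  have u2 : H23.Fix P ≤ U := le_Op nf
  have u3 : P ≤ NK S U := fun g hg => ⟨hP hg, inn_le_Op F hF.1 hP (cj_mem_autS hg (le_normalizer hg))⟩
  rcases u3.eq_or_lt with e | lt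
  · refine hcr P (hF.centric_of_fc (hF.fc_of_fn hn) ((cIn_le_NK u2).trans e.ge)) (radical_iff.2 ⟨hP, ?_⟩)
    have := autS_NK (S := S) u2
    rw [← e, inf_eq_right.2 u1] at this
    exact this.symm
  intro hd
  obtain ⟨σ, s1, s2, s3⟩ := exists_ord_of_dvd hr hP hd
  have s4 := Op_norm (p := p) nf s1
  obtain ⟨τ, t1, t2⟩ := hF.extend_of_normalizer (hF.fc_of_fn hn) u1 s1 s4
  have t3 : τ ∈ normalizer (U : Set (Perm Ω)) := mem_of_eq_on (u2.trans le_normalizer) s4 t2
  have t4 : τ ∈ AutF F (NK S U) := t1.mem_autF' fun g hg => by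
    have := t1.mem_NK u3 u2 hg hg.2
    rwa [cjS_eq_iff.2 t3] at this
  have t5 := fix_anti u3 (pow_card_mem_fix NK_le t4)
  have t6 : τ ∈ Stab P := mem_of_eq_on fix_le_stab (autF_le_stab F P s1) t2
  have t7 : ∀ k : ℕ, ∀ x ∈ P, (σ ^ k) x = (τ ^ k) x := fun k => by
    induction k with
    | zero => intro x _; rfl
    | succ k ih' =>
      intro x hx
      rw [pow_succ, pow_succ, Perm.mul_apply, Perm.mul_apply, ← t2 x hx, ih' _ (stab_mem t6 hx)]
  exact s3 (mem_of_pow_mem_coprime s2 (mem_of_eq_on le_rfl t5 (t7 _))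
    (hr.coprime_iff_not_dvd.2 (ih _ NK_le (card_lt_of_lt lt))))

end Aut

end Cfsg.Agent.FV
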